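import Groth.Agent.Lib.AlgSpCartier.Space
import Groth.Agent.Lib.SerreCrit.Basic
import Groth.Agent.S1686
import Groth.Agent.S1685
import Groth.Prelude.Def_Pi1

/-!
# Local properties of effective Cartier divisors
-/

universe u

set_option backward.isDefEq.respectTransparency.types false

open CategoryTheory CategoryTheory.Limits AlgebraicGeometry Opposite TopologicalSpace

namespace Groth.Agent.AlgSpCartier

open AlgSp Groth.Agent.AlgSpace Groth.Agent.EffCartier
open Groth.Agent.AlgSpDecent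

/-- Normal Noetherian local rings satisfy Serre's condition of order two. -/
theorem min_two_le_depth_of_normal (L : Type u) [CommRing L] [IsLocalRing L] [IsNoetherianRing L]
    [IsDomain L] [IsIntegrallyClosed L] :
    min ((2 : ℕ) : WithBot ℕ∞) (ringKrullDim L) ≤ ((LocCoh.depth L L : ℕ∞) : WithBot ℕ∞) := by
  by_cases h2 : (2 : WithBot ℕ∞) ≤ ringKrullDim L
  · refine le_trans (min_le_left _ _) ?_
    rw [Nat.cast_ofNat]
    exact WithBot.coe_le_coe.2 (SerreCrit.two_le_depth_of_normal L h2)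
  refine le_trans (min_le_right _ _) ?_
  by_cases hF : IsField L
  · rw [ringKrullDim_eq_zero_of_isField hF]
    exact WithBot.coe_le_coe.2 (zero_le : (0 : ℕ∞) ≤ _)
  obtain ⟨a, ham, ha⟩ : ∃ a ∈ IsLocalRing.maximalIdeal L, a ≠ 0 := by
    by_contra! hc
    exact hF (IsLocalRing.isField_iff_maximalIdeal_eq.2 ((Submodule.eq_bot_iff _).2 hc))
  have h1 : (1 : ℕ∞) ≤ LocCoh.depth L L := DepthLib.one_le_idealDepth_of_regular ham
    (IsSMulRegular.of_right_eq_zero_of_smul fun x hx => (mul_eq_zero.1 hx).resolve_left ha)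
  refine le_trans ?_ (WithBot.coe_le_coe.2 h1)
  cases hd : ringKrullDim L with
  | bot => exact bot_le
  | coe n =>
    rw [hd] at h2
    have h2' : ¬ (2 : ℕ∞) ≤ n := fun h => h2 (WithBot.coe_le_coe.2 h)
    refine WithBot.coe_le_coe.2 ?_
    exact Order.le_of_lt_succ (lt_of_lt_of_le (not_le.1 h2') (by norm_num))

variable {S : Scheme.{u}} {X D : Sp S}

/-- Serre's conditions of an effective Cartier divisor. -/
theorem etaleLocally_Sk (k : ℕ)
    (hX : EtaleLocally (fun U => IsLocallyNoetherian U ∧ ∀ x : ↥U,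
        min ((k : ℕ) : WithBot ℕ∞) (ringKrullDim ↥(U.presheaf.stalk x)) ≤
          ((LocCoh.depth ↥(U.presheaf.stalk x) ↥(U.presheaf.stalk x) : ℕ∞) : WithBot ℕ∞)) X)
    {i : D ⟶ X} (hD : IsEffCartierSub i) :
    EtaleLocally (fun V => IsLocallyNoetherian V ∧ ∀ v : ↥V,
        min ((k - 1 : ℕ) : WithBot ℕ∞) (ringKrullDim ↥(V.presheaf.stalk v)) ≤
          ((LocCoh.depth ↥(V.presheaf.stalk v) ↥(V.presheaf.stalk v) : ℕ∞) : WithBot ℕ∞)) D := by
  obtain ⟨U, φ, hφe, hφs, hN, hk⟩ := hX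
  obtain ⟨I, fI, sq⟩ := exists_ideal_square hD.1 φ
  have hI := isEffCartierIdeal_chart hD hφe sq
  exact ⟨Over.mk (I.subschemeι ≫ U.hom), fI, repWith_of_isPullback sq.flip hφe,
    repWith_of_isPullback sq.flip hφs, LocallyOfFiniteType.isLocallyNoetherian I.subschemeι,
    fun v => Groth.Agent.S1685.result U.left k hk I hI v⟩

/-- Effective Cartier divisors on normal spaces have no embedded points. -/
theorem etaleLocally_S1_of_normal
    (hX : EtaleLocally (fun U => IsLocallyNoetherian U ∧ Pi1.IsNormalScheme U) X)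
    {i : D ⟶ X} (hD : IsEffCartierSub i) :
    EtaleLocally (fun V => IsLocallyNoetherian V ∧ ∀ v : ↥V,
        min ((1 : ℕ) : WithBot ℕ∞) (ringKrullDim ↥(V.presheaf.stalk v)) ≤
          ((LocCoh.depth ↥(V.presheaf.stalk v) ↥(V.presheaf.stalk v) : ℕ∞) : WithBot ℕ∞)) D := by
  refine etaleLocally_Sk 2 ?_ hD
  obtain ⟨U, φ, hφe, hφs, hN, hn⟩ := hX
  refine ⟨U, φ, hφe, hφs, hN, fun x => ?_⟩
  obtain ⟨_, _⟩ := hn x
  exact min_two_le_depth_of_normal _

/-- The local dimension drops on an effective Cartier divisor. -/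
theorem hasAt_localDim_lt {i : D ⟶ X} (hD : IsEffCartierSub i) (x : Points D) (d : WithBot ℕ∞)
    (hd : HasAt (fun U u => FlatMor.localDim ↥U u = d) X (Points.map i x)) (hfin : d ≠ ⊤) :
    HasAt (fun V v => FlatMor.localDim ↥V v < d) D x := by
  obtain ⟨U, a, u, hae, hau, hdim⟩ := hd
  obtain ⟨I, fI, sq⟩ := exists_ideal_square hD.1 a
  have hI := isEffCartierIdeal_chart hD hae sq
  obtain ⟨w, hw, hwu⟩ := exists_pt_of_isPullback sq hau.symm
  have hdim : FlatMor.localDim U.left u = d := hdim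
  have hwu : I.subschemeι w = u := hwu
  refine ⟨Over.mk (I.subschemeι ≫ U.hom), fI, w, repWith_of_isPullback sq.flip hae, hw, ?_⟩
  rw [← hdim, ← hwu]
  exact Groth.Agent.S1686.result U.left I hI w (by rw [hwu, hdim]; exact hfin)

end Groth.Agent.AlgSpCartier
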