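import Groth.Agent.Lib.AlgSpCartier.Space
import Groth.Agent.Lib.SecDiv18.BaseChange

/-!
# Base change of effective Cartier divisors flat over the base
-/

universe u

set_option backward.isDefEq.respectTransparency.types false

open CategoryTheory CategoryTheory.Limits AlgebraicGeometry Opposite TopologicalSpace

namespace Groth.Agent.AlgSpCartier

open AlgSp Groth.Agent.AlgSpace Groth.Agent.EffCartier
open Groth.Agent.AlgSpDecent

variable {S : Scheme.{u}} {X Y D Y' X' D' : Sp S}

theorem isEffCartierSub_baseChange (hX : IsAlgSpace X) (hY : IsAlgSpace Y) (hY' : IsAlgSpace Y')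
    {f : X ⟶ Y} {i : D ⟶ X} (hD : IsEffCartierSub i) (hflat : LocP @Flat (i ≫ f)) {g : Y' ⟶ Y}
    {g' : X' ⟶ X} {f' : X' ⟶ Y'} (hsq : IsPullback g' f' f g) {k : D' ⟶ D} {i' : D' ⟶ X'}
    (hD' : IsPullback k i' i g') : IsEffCartierSub i' := by
  have hi' : RepWith @IsClosedImmersion i' := (RepWith (S := S) @IsClosedImmersion).of_isPullback hD' hD.1
  obtain ⟨V, b, hbe, hbs⟩ := hY.atlas
  have sqP := IsPullback.of_hasPullback f b
  have hP : IsAlgSpace (pullback f b) := isAlgSpace_pullback hY hX (IsAlgSpace.yon_obj V) sqP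
  obtain ⟨U, pU, hUe, hUs⟩ := hP.atlas
  obtain ⟨h, hh⟩ := (yon S).map_surjective (pU ≫ pullback.snd f b)
  let a := pU ≫ pullback.fst f b
  have hae : RepWith @Etale a :=
    repWith_comp hUe (repWith_of_isPullback sqP.flip hbe)
  have haw : a ≫ f = (yon S).map h ≫ b := by
    simp only [a, Category.assoc, pullback.condition, hh]
  -- the chart of `Y'`
  obtain ⟨A, q, hqe, hqs⟩ := hY'.atlas
  obtain ⟨T, ta, fstT, sqT⟩ := hbe.1 (q ≫ g)
  obtain ⟨c, rfl⟩ := (yon S).map_surjective fstT
  let τ := (yon S).map ta ≫ q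
  have hτe : RepWith @Etale τ := repWith_comp ((repWith_yon_map_iff _ ta).2 (hbe.2 _ _ _ sqT)) hqe
  have hτs : RepWith @Surjective τ := repWith_comp ((repWith_yon_map_iff _ ta).2 (hbs.2 _ _ _ sqT)) hqs
  have hτ : τ ≫ g = (yon S).map c ≫ b := by simp only [τ, Category.assoc, sqT.w]
  have sqP' := IsPullback.of_hasPullback f' τ
  let n := sqP.lift (pullback.fst f' τ ≫ g') (pullback.snd f' τ ≫ (yon S).map c) (by
    simp only [Category.assoc, hsq.w, ← hτ]
    rw [← Category.assoc, pullback.condition, Category.assoc])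
  have sqn : IsPullback n (pullback.snd f' τ) (pullback.snd f b) ((yon S).map c) := by
    refine IsPullback.of_right ?_ (IsPullback.lift_snd _ _ _ _) sqP
    rw [IsPullback.lift_fst, ← hτ]
    exact sqP'.paste_horiz hsq
  have sqU := IsPullback.of_hasPullback h c
  have sqU' : IsPullback ((yon S).map (pullback.fst h c)) ((yon S).map (pullback.snd h c))
      (pU ≫ pullback.snd f b) ((yon S).map c) := hh ▸ sqU.map (yon S)
  let l := sqn.lift ((yon S).map (pullback.fst h c) ≫ pU) ((yon S).map (pullback.snd h c))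
    (by rw [Category.assoc]; exact sqU'.w)
  have sql : IsPullback ((yon S).map (pullback.fst h c)) l pU n :=
    IsPullback.of_bot (by rw [IsPullback.lift_snd]; exact sqU') (IsPullback.lift_fst _ _ _ _).symm sqn
  let a' := l ≫ pullback.fst f' τ
  have ha'e : RepWith @Etale a' :=
    repWith_comp (repWith_of_isPullback sql hUe) (repWith_of_isPullback sqP'.flip hτe)
  have ha's : RepWith @Surjective a' :=
    repWith_comp (repWith_of_isPullback sql hUs) (repWith_of_isPullback sqP'.flip hτs)
  have ha'g : a' ≫ g' = (yon S).map (pullback.fst h c) ≫ a := by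
    have e1 : l ≫ n = (yon S).map (pullback.fst h c) ≫ pU := IsPullback.lift_fst _ _ _ _
    have e2 : n ≫ pullback.fst f b = pullback.fst f' τ ≫ g' := IsPullback.lift_fst _ _ _ _
    simp only [a', a, Category.assoc]
    rw [← e2, reassoc_of% e1]
  -- the ideals
  obtain ⟨I, fI, sqI⟩ := exists_ideal_square hD.1 a
  have hI := isEffCartierIdeal_chart hD hae sqI
  have hfI : RepWith @Etale fI := repWith_of_isPullback sqI.flip hae
  have hfl : Flat (I.subschemeι ≫ h.left) := hflat fI b (subOver I ≫ h) hfI hbe (by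
    rw [Functor.map_comp, Category.assoc, ← haw, ← Category.assoc, sqI.w, Category.assoc])
  obtain ⟨J, fJ, sqJ⟩ := exists_ideal_square hi' a'
  have sqJ' := sqJ.paste_horiz hD'
  rw [ha'g] at sqJ'
  refine ⟨hi', _, a', J, fJ, ha'e, ha's, sqJ, ?_⟩
  rw [← comap_eq_of_square sqI (pullback.fst h c) sqJ']
  exact @SecDiv.isEffCartierIdeal_comap_of_isPullback _ _ _ _ _ _ _ _
    (sqU.map (CategoryTheory.Over.forget S)) _ hI hfl

end Groth.Agent.AlgSpCartier
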