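import Groth.Agent.Lib.EffCartier.Basic
import Mathlib.AlgebraicGeometry.Morphisms.Flat
import Mathlib.AlgebraicGeometry.Morphisms.UniversallyOpen
import Mathlib.RingTheory.Flat.TorsionFree
import Mathlib.RingTheory.Flat.FaithfullyFlat.Algebra

/-!
# Flat descent of effective Cartier ideal sheaves
-/

universe u

set_option backward.isDefEq.respectTransparency.types false

open CategoryTheory AlgebraicGeometry TopologicalSpace
open scoped nonZeroDivisors

namespace Groth.Agent.AlgSpCartier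

open Groth.Agent.EffCartier

variable {X Y : Scheme.{u}}

/-- Flat ring maps preserve nonzerodivisors. -/
theorem map_nonZeroDivisors_of_flat {A B : Type u} [CommRing A] [CommRing B] (φ : A →+* B)
    (hφ : φ.Flat) {a : A} (ha : a ∈ A⁰) : φ a ∈ B⁰ := by
  let alg : Algebra A B := φ.toAlgebra
  have : Module.Flat A B := hφ
  rw [mem_nonZeroDivisors_iff_right]
  intro b hb
  refine Module.Flat.isSMulRegular_of_nonZeroDivisors (M := B) ha ?_
  show a • b = a • (0 : B)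
  rw [smul_zero, Algebra.smul_def]
  change φ a * b = 0
  rw [mul_comm, hb]

/-- Effective Cartier ideals pull back along flat morphisms. -/
theorem isEffCartierIdeal_comap_of_flat {I : Y.IdealSheafData} (φ : X ⟶ Y) [Flat φ]
    (hI : BlowUp.IsEffCartierIdeal I) : BlowUp.IsEffCartierIdeal (I.comap φ) := by
  refine isEffCartierIdeal_iff.mpr fun x => ?_
  obtain ⟨U, hxU, f, hf⟩ := isEffCartierIdeal_iff.mp hI (φ x)
  obtain ⟨_, ⟨V, hV, rfl⟩, hxV, hVU : V ≤ φ ⁻¹ᵁ U.1⟩ :=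
    X.isBasis_affineOpens.exists_subset_of_mem_open (show x ∈ φ ⁻¹ᵁ U.1 from hxU) (φ ⁻¹ᵁ U.1).isOpen
  exact ⟨⟨V, hV⟩, hxV, _, map_nonZeroDivisors_of_flat _
    (HasRingHomProperty.appLE (P := @Flat) φ ‹_› U ⟨V, hV⟩ hVU) hf.mem,
    comap_ideal_eq_span hf φ ⟨V, hV⟩ hVU⟩

/-- Equations of the inverse image along a flat open map give equations downstairs. -/
theorem exists_isEqn_of_comap {I : Y.IdealSheafData} (φ : X ⟶ Y) [Flat φ] (hopen : IsOpenMap φ)
    (hI : BlowUp.IsEffCartierIdeal (I.comap φ)) (x : X) :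
    ∃ U : Y.affineOpens, φ x ∈ U.1 ∧ ∃ f, IsEqn I U f := by
  obtain ⟨_, ⟨U, hU, rfl⟩, hxU, -⟩ :=
    Y.isBasis_affineOpens.exists_subset_of_mem_open (Set.mem_univ (φ x)) isOpen_univ
  obtain ⟨V, hxV, hVU, g, hg⟩ := exists_isEqn hI (show x ∈ φ ⁻¹ᵁ U from hxU)
  let e := (φ.appLE U V.1 hVU).hom
  have hmap : (I.ideal ⟨U, hU⟩).map e = Ideal.span {g} := by
    rw [← hg.ideal_eq, comap_ideal I φ ⟨U, hU⟩ V hVU]
  -- a local generator coming from below
  let P := (V.2.primeIdealOf ⟨x, hxV⟩).asIdeal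
  obtain ⟨a, ha, c, hc, hcP⟩ : ∃ a ∈ I.ideal ⟨U, hU⟩, ∃ c, e a = c * g ∧ c ∉ P := by
    by_contra hno
    push Not at hno
    have hle : (I.ideal ⟨U, hU⟩).map e ≤ P * Ideal.span {g} := by
      rw [Ideal.map_le_iff_le_comap]
      intro i hi
      have h1 : e i ∈ Ideal.span {g} := hmap ▸ Ideal.mem_map_of_mem e hi
      obtain ⟨c, hc⟩ := Ideal.mem_span_singleton'.1 h1
      exact Ideal.mem_mul_span_singleton.2 ⟨c, hno i hi c hc.symm, hc⟩
    have h2 : g ∈ P * Ideal.span {g} := hle (hmap.symm ▸ Ideal.subset_span rfl)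
    obtain ⟨c, hcP, hc⟩ := Ideal.mem_mul_span_singleton.1 h2
    have hP : P ≠ ⊤ := (V.2.primeIdealOf ⟨x, hxV⟩).2.ne_top
    have : c = 1 := (mul_cancel_right_mem_nonZeroDivisors hg.mem).1 (by rw [hc, one_mul])
    exact hP ((Ideal.eq_top_iff_one P).2 (this ▸ hcP))
  have hxc : x ∈ X.basicOpen c := by
    have h1 : V.2.primeIdealOf ⟨x, hxV⟩ ∈ V.2.fromSpec ⁻¹ᵁ X.basicOpen c := by
      rw [V.2.fromSpec_preimage_basicOpen]; exact hcP
    have h2 : V.2.fromSpec (V.2.primeIdealOf ⟨x, hxV⟩) ∈ X.basicOpen c := h1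
    rwa [V.2.fromSpec_primeIdealOf] at h2
  -- shrink downstairs
  obtain ⟨h, hh, hxh⟩ := hU.exists_basicOpen_le
    (V := ⟨_, hopen _ (X.basicOpen c).isOpen⟩) ⟨φ x, x, hxc, rfl⟩ hxU
  let U' : Y.affineOpens := Y.affineBasicOpen (U := ⟨U, hU⟩) h
  let hr : Γ(X, V.1) := e h
  let V' : X.affineOpens := X.affineBasicOpen (U := V) (c * hr)
  have hV'e : V'.1 = X.basicOpen c ⊓ (φ ⁻¹ᵁ Y.basicOpen h ⊓ V.1) := by
    show X.basicOpen (c * hr) = _
    rw [X.basicOpen_mul]
    congr 1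
    show X.basicOpen ((φ.appLE U V.1 hVU).hom h) = _
    rw [Scheme.Hom.appLE, CommRingCat.comp_apply, Scheme.basicOpen_res, Scheme.preimage_basicOpen]
    exact inf_comm _ _
  have hle : V'.1 ≤ φ ⁻¹ᵁ U'.1 := by rw [hV'e]; exact inf_le_right.trans inf_le_left
  have hle0 : V'.1 ≤ φ ⁻¹ᵁ U := hle.trans fun z hz => Y.basicOpen_le h hz
  let e' := φ.appLE U'.1 V'.1 hle
  let alg : Algebra Γ(Y, U'.1) Γ(X, V'.1) := e'.hom.toAlgebra
  have : Module.Flat Γ(Y, U'.1) Γ(X, V'.1) := HasRingHomProperty.appLE (P := @Flat) φ ‹_› U' V' hle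
  have hsurj : ∀ z ∈ U'.1, ∃ w ∈ V'.1, φ w = z := fun z hz => by
    obtain ⟨w, hw, rfl⟩ := hh hz
    refine ⟨w, ?_, rfl⟩
    rw [hV'e]
    exact ⟨hw, hz, X.basicOpen_le c hw⟩
  have : Module.FaithfullyFlat Γ(Y, U'.1) Γ(X, V'.1) := by
    refine Module.FaithfullyFlat.of_comap_surjective fun p => ?_
    obtain ⟨w, hw, hwz⟩ := hsurj (U'.2.fromSpec p) (U'.2.range_fromSpec.subset ⟨p, rfl⟩)
    refine ⟨V'.2.primeIdealOf ⟨w, hw⟩, ?_⟩
    apply U'.2.fromSpec.isOpenEmbedding.injective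
    change U'.2.fromSpec (Spec.map e' _) = _
    rw [← Scheme.Hom.comp_apply, IsAffineOpen.SpecMap_appLE_fromSpec φ U'.2 V'.2 hle,
      Scheme.Hom.comp_apply, IsAffineOpen.fromSpec_primeIdealOf, hwz]
  let a' : Γ(Y, U'.1) := Y.presheaf.map (homOfLE (Y.basicOpen_le h)).op a
  let g' : Γ(X, V'.1) := X.presheaf.map (homOfLE (X.basicOpen_le (c * hr))).op g
  let c' : Γ(X, V'.1) := X.presheaf.map (homOfLE (X.basicOpen_le (c * hr))).op c
  have hcu : IsUnit c' := by
    have hle' : V'.1 ≤ X.basicOpen c := by rw [hV'e]; exact inf_le_left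
    have : c' = X.presheaf.map (homOfLE hle').op (X.presheaf.map (homOfLE (X.basicOpen_le c)).op c) := by
      rw [← CommRingCat.comp_apply, ← X.presheaf.map_comp]
      rfl
    rw [this]
    exact IsUnit.map _ (RingedSpace.isUnit_res_basicOpen _ _)
  have hea : e'.hom a' = c' * g' := by
    have h1 : e'.hom a' = X.presheaf.map (homOfLE (X.basicOpen_le (c * hr))).op (e a) := by
      change (Y.presheaf.map _ ≫ φ.appLE U'.1 V'.1 hle) a = (φ.appLE U V.1 hVU ≫ X.presheaf.map _) a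
      exact congrArg (fun k => k.hom a)
        ((φ.map_appLE hle (homOfLE (Y.basicOpen_le h)).op).trans
          (φ.appLE_map hVU (homOfLE (X.basicOpen_le (c * hr))).op).symm)
    rw [h1, hc, map_mul]
    rfl
  have hg' : IsEqn (I.comap φ) V' g' := hg.basicOpen (c * hr)
  have hga : Ideal.span {e'.hom a'} = Ideal.span {g'} := by
    rw [hea]; exact Ideal.span_singleton_mul_left_unit hcu g'
  refine ⟨U', hxh, a', ?_, ?_⟩
  · rw [mem_nonZeroDivisors_iff_right]
    intro z hz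
    have hinj : Function.Injective e'.hom :=
      FaithfulSMul.algebraMap_injective Γ(Y, U'.1) Γ(X, V'.1)
    apply hinj
    rw [map_zero]
    have : e'.hom z * c' * g' = 0 := by rw [mul_assoc, ← hea, ← map_mul, hz, map_zero]
    exact hcu.mul_left_eq_zero.1 ((mem_nonZeroDivisors_iff_right.1 hg'.mem) _ this)
  · rw [← Ideal.comap_map_eq_self_of_faithfullyFlat (B := Γ(X, V'.1)) (I.ideal U'),
      ← Ideal.comap_map_eq_self_of_faithfullyFlat (B := Γ(X, V'.1)) (Ideal.span {a'})]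
    change Ideal.comap _ ((I.ideal U').map e'.hom) = Ideal.comap _ ((Ideal.span {a'}).map e'.hom)
    congr 1
    rw [← comap_ideal I φ U' V' hle, hg'.ideal_eq, Ideal.map_span, Set.image_singleton, hga]

/-- Being an effective Cartier ideal descends along flat open surjections. -/
theorem isEffCartierIdeal_of_comap {I : Y.IdealSheafData} (φ : X ⟶ Y) [Flat φ] [Surjective φ]
    (hopen : IsOpenMap φ) (hI : BlowUp.IsEffCartierIdeal (I.comap φ)) : BlowUp.IsEffCartierIdeal I :=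
  isEffCartierIdeal_iff.mpr fun y => by
    obtain ⟨x, rfl⟩ := φ.surjective y
    exact exists_isEqn_of_comap φ hopen hI x

end Groth.Agent.AlgSpCartier
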