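import Groth.Prelude.Def_AlgSpSub
import Groth.Prelude.Def_W4stk3spdivLocPr
import Groth.Agent.Lib.AlgSpCartier.SchemeDescent
import Groth.Agent.Lib.EffCartier.Dense
import Groth.Agent.Lib.AlgSpace.Affine
import Groth.Agent.Lib.AlgSpDecent.Basic2
import Groth.Agent.Lib.AlgSpace.MorDiag
import Groth.Agent.Lib.FpqcDesc.Basic

/-!
# Effective Cartier divisors on algebraic spaces
-/

universe u

set_option backward.isDefEq.respectTransparency.types false

open CategoryTheory CategoryTheory.Limits AlgebraicGeometry Opposite TopologicalSpace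

namespace Groth.Agent.AlgSpCartier

open AlgSp Groth.Agent.AlgSpace Groth.Agent.EffCartier
open Groth.Agent.AlgSpDecent

variable {S : Scheme.{u}} {X D : Sp S}

/-- The closed subscheme of an ideal sheaf as a scheme over the base. -/
noncomputable abbrev subOver {U : Over S} (I : U.left.IdealSheafData) :
    Over.mk (I.subschemeι ≫ U.hom) ⟶ U :=
  Over.homMk I.subschemeι rfl

/-- The inverse image of a closed subspace in a chart is cut out by an ideal sheaf. -/
theorem exists_ideal_square {i : D ⟶ X} (hi : RepWith @IsClosedImmersion i) {U : Over S}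
    (g : (yon S).obj U ⟶ X) :
    ∃ (I : U.left.IdealSheafData) (fst : (yon S).obj (Over.mk (I.subschemeι ≫ U.hom)) ⟶ D),
      IsPullback fst ((yon S).map (subOver I)) i g := by
  obtain ⟨W, w, fst, sq⟩ := hi.1 g
  have : IsClosedImmersion w.left := hi.2 _ _ _ sq
  have : IsIso w.left.toImage := inferInstance
  let I := w.left.ker
  let e : W ⟶ Over.mk (I.subschemeι ≫ U.hom) :=
    Over.homMk w.left.toImage (by
      show w.left.toImage ≫ I.subschemeι ≫ U.hom = W.hom
      rw [← Category.assoc, show w.left.toImage ≫ I.subschemeι = w.left from w.left.toImage_imageι,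
        Over.w])
  have : IsIso e.left := ‹IsIso w.left.toImage›
  have : IsIso ((CategoryTheory.Over.forget S).map e) := ‹IsIso w.left.toImage›
  have : IsIso e := isIso_of_reflects_iso e (CategoryTheory.Over.forget S)
  have hew : e ≫ subOver I = w := Over.OverMorphism.ext w.left.toImage_imageι
  refine ⟨I, (yon S).map (inv e) ≫ fst, IsPullback.of_iso sq ((yon S).mapIso (asIso e)) (Iso.refl _)
    (Iso.refl _) (Iso.refl _) ?_ ?_ (by simp) (by simp)⟩
  · simp only [Functor.mapIso_hom, asIso_hom, Iso.refl_hom, Category.comp_id]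
    rw [← Category.assoc, ← Functor.map_comp, IsIso.hom_inv_id, CategoryTheory.Functor.map_id,
      Category.id_comp]
  · simp only [Functor.mapIso_hom, asIso_hom, Iso.refl_hom, Category.comp_id]
    rw [← Functor.map_comp, hew]

/-- Closed subschemes isomorphic over the scheme have the same ideal. -/
theorem ker_eq_of_iso {A B T : Scheme.{u}} (e : A ≅ B) (a : A ⟶ T) (b : B ⟶ T) (h : e.hom ≫ b = a) :
    a.ker = b.ker := by
  refine le_antisymm ?_ ?_
  · rw [show b = e.inv ≫ a by rw [← h, Iso.inv_hom_id_assoc]]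
    exact Scheme.Hom.le_ker_comp _ _
  · rw [← h]
    exact Scheme.Hom.le_ker_comp _ _

/-- The inverse image of the ideal of a chart is the ideal of the composite chart. -/
theorem comap_eq_of_square {i : D ⟶ X} {V T : Over S} {φ : (yon S).obj V ⟶ X}
    {I : V.left.IdealSheafData} {fst : (yon S).obj (Over.mk (I.subschemeι ≫ V.hom)) ⟶ D}
    (sq : IsPullback fst ((yon S).map (subOver I)) i φ) (a : T ⟶ V)
    {J : T.left.IdealSheafData} {fstT : (yon S).obj (Over.mk (J.subschemeι ≫ T.hom)) ⟶ D}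
    (sqT : IsPullback fstT ((yon S).map (subOver J)) i ((yon S).map a ≫ φ)) :
    I.comap a.left = J := by
  have sqP := IsPullback.of_hasPullback a (subOver I)
  have sqP' : IsPullback (pullback.snd a (subOver I)) (pullback.fst a (subOver I)) (subOver I) a :=
    sqP.flip
  have big := (sqP'.map (yon S)).paste_horiz sq
  let e := (yon S).preimageIso (big.isoIsPullback _ _ sqT)
  have he : e.hom ≫ subOver J = pullback.fst a (subOver I) := (yon S).map_injective (by simp [e])
  have sqS := sqP.map (CategoryTheory.Over.forget S)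
  have h1 : (pullback.fst a.left I.subschemeι).ker = (pullback.fst a (subOver I)).left.ker :=
    (ker_eq_of_iso sqS.isoPullback _ _ sqS.isoPullback_hom_fst).symm
  have h2 : (pullback.fst a (subOver I)).left.ker = J.subschemeι.ker :=
    ker_eq_of_iso ((CategoryTheory.Over.forget S).mapIso e) _ _ (by
      show e.hom.left ≫ (subOver J).left = _
      rw [← Over.comp_left, he])
  rw [Scheme.IdealSheafData.ker_subschemeι] at h2
  exact h1.trans h2

/-- Effective Cartier ideals are a Zariski local notion. -/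
theorem isEffCartierIdeal_of_forall_exists {V : Scheme.{u}} {I : V.IdealSheafData}
    (h : ∀ x : V, ∃ U : V.affineOpens, x ∈ U.1 ∧ ∃ f, IsEqn I U f) : BlowUp.IsEffCartierIdeal I :=
  isEffCartierIdeal_iff.mpr h

/-- On every etale chart the ideal of an effective Cartier divisor is effective Cartier. -/
theorem isEffCartierIdeal_chart {i : D ⟶ X} (hD : IsEffCartierSub i) {U : Over S}
    {a : (yon S).obj U ⟶ X} (ha : RepWith @Etale a) {J : U.left.IdealSheafData}
    {fstU : (yon S).obj (Over.mk (J.subschemeι ≫ U.hom)) ⟶ D}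
    (sqU : IsPullback fstU ((yon S).map (subOver J)) i a) : BlowUp.IsEffCartierIdeal J := by
  obtain ⟨hi, V, φ, I, fst, hφe, hφs, sq, hI⟩ := hD
  obtain ⟨T, t, fstT, sqT⟩ := hφe.1 a
  obtain ⟨s, rfl⟩ := (yon S).map_surjective fstT
  have : Etale t.left := hφe.2 _ _ _ sqT
  have : Surjective t.left := hφs.2 _ _ _ sqT
  have : Etale s.left := ha.2 _ _ _ sqT.flip
  obtain ⟨K, fstK, sqK⟩ := exists_ideal_square hi ((yon S).map s ≫ φ)
  have h1 := comap_eq_of_square sq s sqK
  rw [sqT.w] at sqK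
  have h2 := comap_eq_of_square sqU t sqK
  refine isEffCartierIdeal_of_comap t.left t.left.isOpenMap ?_
  rw [h2, ← h1]
  exact isEffCartierIdeal_comap_of_flat s.left hI

theorem isEffCartierSub_iff_forall_chart (hX : IsAlgSpace X) {i : D ⟶ X}
    (hi : RepWith @IsClosedImmersion i) :
    IsEffCartierSub i ↔
      ∀ (U : Over S) (φ : (yon S).obj U ⟶ X), RepWith @Etale φ →
        ∀ (I : U.left.IdealSheafData) (fst : (yon S).obj (Over.mk (I.subschemeι ≫ U.hom)) ⟶ D),
          IsPullback fst ((yon S).map (subOver I)) i φ → BlowUp.IsEffCartierIdeal I := by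
  refine ⟨fun hD U φ hφ I fst sq => isEffCartierIdeal_chart hD hφ sq, fun h => ?_⟩
  obtain ⟨V, φ, hφe, hφs⟩ := hX.atlas
  obtain ⟨I, fst, sq⟩ := exists_ideal_square hi φ
  exact ⟨hi, V, φ, I, fst, hφe, hφs, sq, h V φ hφe I fst sq⟩

/-- Effective Cartier divisors pull back along flat morphisms. -/
theorem isEffCartierSub_pullback {Y P : Sp S} (hX : IsAlgSpace X) (hY : IsAlgSpace Y) {f : X ⟶ Y}
    (hf : LocP @Flat f) {i : D ⟶ Y} (hD : IsEffCartierSub i) {fst : P ⟶ D} {snd : P ⟶ X}
    (sq : IsPullback fst snd i f) : IsEffCartierSub snd := by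
  have hsnd : RepWith @IsClosedImmersion snd :=
    (RepWith (S := S) @IsClosedImmersion).of_isPullback sq hD.1
  obtain ⟨U, V, a, b, h, hae, has, hbe, hbs, w⟩ := exists_chart_square hX hY f
  have : Flat h.left := hf a b h hae hbe w
  obtain ⟨J, fJ, sqJ⟩ := exists_ideal_square hD.1 b
  obtain ⟨I, fI, sqI⟩ := exists_ideal_square hsnd a
  have h' := sqI.paste_horiz sq
  rw [w] at h'
  refine ⟨hsnd, U, a, I, fI, hae, has, sqI, ?_⟩
  rw [← comap_eq_of_square sqJ h h']
  exact isEffCartierIdeal_comap_of_flat h.left (isEffCartierIdeal_chart hD hbe sqJ)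

/-- The trivial equation away from the support. -/
theorem exists_isEqn_of_not_mem {V : Scheme.{u}} {I : V.IdealSheafData} {x : V} (hx : x ∉ I.support) :
    ∃ U : V.affineOpens, x ∈ U.1 ∧ ∃ f, IsEqn I U f := by
  obtain ⟨_, ⟨U, hU, rfl⟩, hxU, hUs : U ≤ cmpl I⟩ :=
    V.isBasis_affineOpens.exists_subset_of_mem_open (show x ∈ cmpl I from hx) (cmpl I).isOpen
  refine ⟨⟨U, hU⟩, hxU, 1, one_mem _, ?_⟩
  rw [Ideal.span_singleton_one]
  by_contra hne
  obtain ⟨m, hm, hle⟩ := Ideal.exists_le_maximal _ hne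
  have hs := hU.fromSpec_image_zeroLocus (I.ideal ⟨U, hU⟩ : Set Γ(V, U))
  have hmem : hU.fromSpec ⟨m, hm.isPrime⟩ ∈ V.zeroLocus (I.ideal ⟨U, hU⟩ : Set Γ(V, U)) ∩ U :=
    hs.subset ⟨⟨m, hm.isPrime⟩, hle, rfl⟩
  refine hUs hmem.2 ?_
  show hU.fromSpec ⟨m, hm.isPrime⟩ ∈ I.support
  rw [Scheme.IdealSheafData.mem_support_iff_of_mem (U := ⟨U, hU⟩) hmem.2]
  exact hmem.1

/-- The support of the ideal of a chart is the inverse image of the closed subspace. -/
theorem support_eq_preimage {i : D ⟶ X} {V : Over S} {φ : (yon S).obj V ⟶ X}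
    {I : V.left.IdealSheafData} {fst : (yon S).obj (Over.mk (I.subschemeι ≫ V.hom)) ⟶ D}
    (sq : IsPullback fst ((yon S).map (subOver I)) i φ) (v : V.left) :
    v ∈ I.support ↔ Points.ofPt φ v ∈ Set.range (Points.map i) := by
  have hr := Scheme.IdealSheafData.range_subschemeι I
  constructor
  · intro hv
    obtain ⟨z, hz⟩ := hr.superset hv
    exact ⟨Points.ofPt fst z, by
      rw [Points.map_ofPt, sq.w, ofPt_map_comp]; exact congrArg (Points.ofPt φ) hz⟩
  · rintro ⟨d, hd⟩
    obtain ⟨z, -, hz⟩ := exists_pt_of_isPullback sq hd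
    exact hr.subset ⟨z, hz⟩

theorem isEffCartierSub_iff_forall_nbhd (hX : IsAlgSpace X) {i : D ⟶ X}
    (hi : RepWith @IsClosedImmersion i) :
    IsEffCartierSub i ↔
      ∀ x : Points D,
        ∃ (U : Over S) (_ : IsAffine U.left) (a : (yon S).obj U ⟶ X) (u : ↥U.left)
          (f : Γ(U.left, ⊤)) (I : U.left.IdealSheafData)
          (fst : (yon S).obj (Over.mk (I.subschemeι ≫ U.hom)) ⟶ D),
          RepWith @Etale a ∧ Points.ofPt a u = Points.map i x ∧
            f ∈ nonZeroDivisors Γ(U.left, ⊤) ∧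
            I.ideal ⟨⊤, isAffineOpen_top U.left⟩ = Ideal.span {f} ∧
            IsPullback fst ((yon S).map (subOver I)) i a := by
  constructor
  · rintro ⟨-, V, φ, I, fst, hφe, hφs, sq, hI⟩ x
    obtain ⟨v, hv⟩ := surjective_ofPt hφs (Points.map i x)
    obtain ⟨W, hvW, f, hf⟩ := isEffCartierIdeal_iff.mp hI v
    let U : Over S := Over.mk (W.1.ι ≫ V.hom)
    let o : U ⟶ V := Over.homMk W.1.ι rfl
    have : IsAffine U.left := W.2
    obtain ⟨J, fJ, sqJ⟩ := exists_ideal_square hi ((yon S).map o ≫ φ)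
    have hle : (⟨⊤, isAffineOpen_top U.left⟩ : U.left.affineOpens).1 ≤ o.left ⁻¹ᵁ W.1 :=
      fun z _ => z.2
    refine ⟨U, ‹_›, _, (⟨v, hvW⟩ : W.1), o.left.appLE W.1 ⊤ hle f, J, fJ,
      repWith_etale_restrict hφe W.1, (ofPt_map_comp o φ _).trans hv,
      map_nonZeroDivisors_of_flat _
        (HasRingHomProperty.appLE (P := @Flat) o.left (inferInstanceAs (Flat W.1.ι)) W
          ⟨⊤, isAffineOpen_top U.left⟩ hle) hf.mem, ?_, sqJ⟩
    rw [← comap_eq_of_square sq o sqJ]
    exact comap_ideal_eq_span hf o.left ⟨⊤, isAffineOpen_top U.left⟩ hle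
  · intro h
    obtain ⟨V, φ, hφe, hφs⟩ := hX.atlas
    obtain ⟨I, fst, sq⟩ := exists_ideal_square hi φ
    refine ⟨hi, V, φ, I, fst, hφe, hφs, sq, isEffCartierIdeal_of_forall_exists fun v => ?_⟩
    by_cases hv : v ∈ I.support
    swap
    · exact exists_isEqn_of_not_mem hv
    obtain ⟨x, hx⟩ := (support_eq_preimage sq v).1 hv
    obtain ⟨U, hU, a, u, f, J, fJ, hae, hau, hf, hJ, sqJ⟩ := h x
    obtain ⟨T, t, fstT, sqT⟩ := hae.1 φ
    obtain ⟨s, rfl⟩ := (yon S).map_surjective fstT
    have : Etale t.left := hae.2 _ _ _ sqT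
    have : Etale s.left := hφe.2 _ _ _ sqT.flip
    obtain ⟨τ, -, hτ⟩ := exists_pt_of_isPullback sqT (x := Points.ofScheme U u) (t := v)
      (by rw [← Points.ofPt_eq_map_ofScheme, hau, hx])
    obtain ⟨K, fstK, sqK⟩ := exists_ideal_square hi ((yon S).map s ≫ a)
    have h1 := comap_eq_of_square sqJ s sqK
    rw [sqT.w] at sqK
    have h2 := comap_eq_of_square sq t sqK
    rw [← hτ]
    refine exists_isEqn_of_comap t.left t.left.isOpenMap ?_ τ
    rw [h2, ← h1]
    refine isEffCartierIdeal_comap_of_flat s.left (isEffCartierIdeal_of_forall_exists fun z => ?_)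
    exact ⟨⟨⊤, isAffineOpen_top U.left⟩, trivial, f, hf, hJ⟩

/-- The complement of a locally principal closed subscheme has affine inclusion. -/
theorem isAffineHom_cmpl_of_locPrincipal {V : Scheme.{u}} {I : V.IdealSheafData}
    (hI : Curv2.IsLocPrincipal I) : IsAffineHom (cmpl I).ι := by
  refine isAffineHom_of_forall_exists_isAffineOpen _ fun x => ?_
  by_cases hx : x ∈ I.support
  · obtain ⟨U, hxU, f, hf⟩ := hI x hx
    have hb : V.basicOpen f = cmpl I ⊓ U.1 := by
      ext z
      refine ⟨fun hz => ⟨fun hs => ?_, V.basicOpen_le f hz⟩, fun ⟨hs, hzU⟩ => ?_⟩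
      · have hs' : z ∈ I.support := hs
        rw [Scheme.IdealSheafData.mem_support_iff_of_mem (U := U) (V.basicOpen_le f hz), hf, Scheme.zeroLocus_span,
          Scheme.mem_zeroLocus_iff] at hs'
        exact hs' f rfl hz
      · by_contra hz
        refine hs ?_
        show z ∈ I.support
        rw [Scheme.IdealSheafData.mem_support_iff_of_mem (U := U) hzU, hf, Scheme.zeroLocus_span,
          Scheme.mem_zeroLocus_iff]
        intro r hr; rw [Set.mem_singleton_iff] at hr; subst hr; exact hz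
    refine ⟨U.1, hxU, U.2, ?_⟩
    have h : IsAffineOpen ((cmpl I).ι ''ᵁ ((cmpl I).ι ⁻¹ᵁ U.1)) := by
      rw [Scheme.Hom.image_preimage_eq_opensRange_inf, Scheme.Opens.opensRange_ι, ← hb]
      exact U.2.basicOpen f
    exact ((cmpl I).ι.isAffineOpen_iff_of_isOpenImmersion).mp h
  · obtain ⟨_, ⟨U, hU, rfl⟩, hxU, hUs : U ≤ cmpl I⟩ :=
      V.isBasis_affineOpens.exists_subset_of_mem_open (show x ∈ cmpl I from hx) (cmpl I).isOpen
    refine ⟨U, hxU, hU, ?_⟩
    have h : IsAffineOpen ((cmpl I).ι ''ᵁ ((cmpl I).ι ⁻¹ᵁ U)) := by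
      rw [Scheme.Hom.image_preimage_eq_opensRange_inf, Scheme.Opens.opensRange_ι, inf_eq_right.2 hUs]
      exact hU
    exact ((cmpl I).ι.isAffineOpen_iff_of_isOpenImmersion).mp h

/-- The inverse image of the complement in a chart is the complement of the support. -/
theorem exists_cmpl_square {i : D ⟶ X} {V : Over S} {φ : (yon S).obj V ⟶ X}
    {I : V.left.IdealSheafData} {fst : (yon S).obj (Over.mk (I.subschemeι ≫ V.hom)) ⟶ D}
    (sq : IsPullback fst ((yon S).map (subOver I)) i φ) {U : Sp S} {j : U ⟶ X}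
    (hj : RepWith @IsOpenImmersion j) (hU : Set.range (Points.map j) = (Set.range (Points.map i))ᶜ) :
    ∃ fstW : (yon S).obj (Over.mk ((cmpl I).ι ≫ V.hom)) ⟶ U,
      IsPullback fstW ((yon S).map (Over.homMk (cmpl I).ι rfl : Over.mk ((cmpl I).ι ≫ V.hom) ⟶ V)) j φ := by
  obtain ⟨W, w, fW, sqW⟩ := hj.1 φ
  have : IsOpenImmersion w.left := hj.2 _ _ _ sqW
  have hr : Set.range w.left = Set.range (cmpl I).ι := by
    rw [Scheme.Opens.range_ι]
    ext v
    constructor
    · rintro ⟨z, rfl⟩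
      show w.left z ∉ I.support
      rw [support_eq_preimage sq]
      refine hU.subset ⟨Points.ofPt fW z, ?_⟩
      rw [Points.map_ofPt, sqW.w, ofPt_map_comp]
    · intro hv
      have hv' : v ∉ I.support := hv
      rw [support_eq_preimage sq] at hv'
      obtain ⟨z, hz⟩ := hU.superset hv'
      obtain ⟨ζ, -, hζ⟩ := exists_pt_of_isPullback sqW hz
      exact ⟨ζ, hζ⟩
  let e₀ := IsOpenImmersion.isoOfRangeEq w.left (cmpl I).ι hr
  have he₀ : e₀.hom ≫ (cmpl I).ι = w.left := IsOpenImmersion.isoOfRangeEq_hom_fac _ _ _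
  let e : W ≅ Over.mk ((cmpl I).ι ≫ V.hom) := Over.isoMk e₀ (by
    show e₀.hom ≫ (cmpl I).ι ≫ V.hom = W.hom
    rw [← Category.assoc, he₀, Over.w])
  refine ⟨(yon S).map e.inv ≫ fW, IsPullback.of_iso sqW ((yon S).mapIso e) (Iso.refl _)
    (Iso.refl _) (Iso.refl _) ?_ ?_ (by simp) (by simp)⟩
  · simp only [Functor.mapIso_hom, Iso.refl_hom, Category.comp_id]
    rw [← Category.assoc, ← Functor.map_comp, e.hom_inv_id, CategoryTheory.Functor.map_id,
      Category.id_comp]
  · simp only [Functor.mapIso_hom, Iso.refl_hom, Category.comp_id]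
    rw [← Functor.map_comp]
    congr 1
    exact Over.OverMorphism.ext he₀.symm

/-- The complement of a locally principal closed subspace has affine inclusion. -/
theorem isAffineMor_cmpl {i : D ⟶ X} (hD : IsLocPrincipalSub i) {U : Sp S}
    {j : U ⟶ X} (hj : RepWith @IsOpenImmersion j)
    (hU : Set.range (Points.map j) = (Set.range (Points.map i))ᶜ) : IsAffineMor j := by
  obtain ⟨hi, V, φ, I, fst, hφe, hφs, sq, hI⟩ := hD
  obtain ⟨fW, sqW⟩ := exists_cmpl_square sq hj hU
  rw [isAffineMor_iff_repWith]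
  have := FpqcDesc.descendsAlong_isAffineHom.{u}
  have := isLocalAtTarget_fppf (@IsAffineHom : MorphismProperty Scheme.{u})
  have := isLocallySurjective_of_etale hφe hφs
  refine repWith_of_locallySurjective hj.1 sqW @IsAffineHom ?_
  exact (repWith_yon_map_iff @IsAffineHom _).2 (isAffineHom_cmpl_of_locPrincipal hI)

theorem isLocPrincipalSub_of_isEffCartierSub {i : D ⟶ X} (hD : IsEffCartierSub i) :
    IsLocPrincipalSub i := by
  obtain ⟨hi, V, φ, I, fst, hφe, hφs, sq, hI⟩ := hD
  refine ⟨hi, V, φ, I, fst, hφe, hφs, sq, fun x _ => ?_⟩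
  obtain ⟨U, hxU, f, -, hf⟩ := hI x
  exact ⟨U, hxU, f, hf⟩

/-- The complement of an effective Cartier divisor is scheme theoretically dense. -/
theorem isSchDense_cmpl {i : D ⟶ X} (hD : IsEffCartierSub i) {U : Sp S}
    {j : U ⟶ X} (hj : RepWith @IsOpenImmersion j)
    (hU : Set.range (Points.map j) = (Set.range (Points.map i))ᶜ) : IsSchDense j := by
  obtain ⟨hi, V, φ, I, fst, hφe, hφs, sq, hI⟩ := hD
  obtain ⟨fW, sqW⟩ := exists_cmpl_square sq hj hU
  refine ⟨hj, V, φ, cmpl I, fW, hφe, hφs, sqW, fun O => ?_⟩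
  have := quasiCompact_interior hI
  have := dominant_cmpl hI
  intro a b hab
  apply (cmpl I).ι.app_injective O
  rw [Scheme.Opens.ι_app]
  have hle : (cmpl I).ι ''ᵁ ((cmpl I).ι ⁻¹ᵁ O) ≤ O ⊓ cmpl I := by
    rw [Scheme.Hom.image_preimage_eq_opensRange_inf, Scheme.Opens.opensRange_ι]
    exact (inf_comm _ _).le
  rw [Subsingleton.elim (homOfLE _) (homOfLE hle ≫ homOfLE inf_le_left), op_comp, Functor.map_comp]
  exact congrArg (fun t => (V.left.presheaf.map (homOfLE hle).op).hom t) hab

end Groth.Agent.AlgSpCartier
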