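import Groth.Prelude.Def_AlgSpModX
import Groth.Agent.Lib.AlgSpCartier.Space
import Groth.Agent.Lib.EffCartier.Mul

/-!
# Products of cut out closed subspaces
-/

universe u

set_option backward.isDefEq.respectTransparency.types false

open CategoryTheory CategoryTheory.Limits AlgebraicGeometry Opposite TopologicalSpace

namespace Groth.Agent.AlgSpCartier

open AlgSp Groth.Agent.AlgSpace Groth.Agent.EffCartier
open Groth.Agent.AlgSpDecent

variable {S : Scheme.{u}} {X : Sp S}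

/-- On an affine chart the ideal of a cut out subspace is the given ideal. -/
theorem ideal_eq_of_isCutOutBy {D : Sp S} {i : D ⟶ X} {I : IdealEt X} (h : IsCutOutBy I i)
    {U : Over S} (hU : IsAffine U.left) (a : (yon S).obj U ⟶ X) (ha : RepWith @Etale a)
    {J : U.left.IdealSheafData} {fst : (yon S).obj (Over.mk (J.subschemeι ≫ U.hom)) ⟶ D}
    (sq : IsPullback fst ((yon S).map (subOver J)) i a) :
    J.ideal ⟨⊤, isAffineOpen_top U.left⟩ = I.ideal (EtOver.mk a ha) hU := by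
  obtain ⟨hi, rfl⟩ := h
  let E : EtOver X := EtOver.mk a ha
  have sqE : IsPullback (hi.1.fst E.obj.hom) ((yon S).map (EtOver.bcπ hi.1 E)) i a :=
    hi.1.isPullback a
  let e := (yon S).preimageIso (sqE.isoIsPullback _ _ sq)
  have he : e.hom ≫ subOver J = EtOver.bcπ hi.1 E := (yon S).map_injective (by
    rw [Functor.map_comp, Functor.preimageIso_hom, Functor.map_preimage]
    exact sqE.isoIsPullback_hom_snd _ _ sq)
  have h2 : (EtOver.bcπ hi.1 E).left.ker = J.subschemeι.ker :=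
    ker_eq_of_iso ((CategoryTheory.Over.forget S).mapIso e) _ _ (by
      show e.hom.left ≫ (subOver J).left = _
      rw [← Over.comp_left, he])
  rw [Scheme.IdealSheafData.ker_subschemeι] at h2
  have : IsClosedImmersion (EtOver.bcπ hi.1 E).left := hi.2 _ _ _ sqE
  rw [← h2, Scheme.Hom.ker_apply]
  rfl

/-- The ideal of a product is the product of the ideals on charts. -/
theorem mul_eq_of_isCutOutBy {Z Y D : Sp S} {iZ : Z ⟶ X} {iY : Y ⟶ X} {iD : D ⟶ X}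
    {I J : IdealEt X} (hZ : IsCutOutBy I iZ) (hY : IsCutOutBy J iY) (hD : IsCutOutBy (I * J) iD)
    {V : Over S} {φ : (yon S).obj V ⟶ X} (hφ : RepWith @Etale φ)
    {KZ KY KD : V.left.IdealSheafData}
    {fZ : (yon S).obj (Over.mk (KZ.subschemeι ≫ V.hom)) ⟶ Z}
    {fY : (yon S).obj (Over.mk (KY.subschemeι ≫ V.hom)) ⟶ Y}
    {fD : (yon S).obj (Over.mk (KD.subschemeι ≫ V.hom)) ⟶ D}
    (sZ : IsPullback fZ ((yon S).map (subOver KZ)) iZ φ)
    (sY : IsPullback fY ((yon S).map (subOver KY)) iY φ)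
    (sD : IsPullback fD ((yon S).map (subOver KD)) iD φ) : KD = KZ * KY := by
  refine eq_of_forall_exists fun x => ?_
  obtain ⟨W, hW, hxW, -⟩ :=
    exists_isAffineOpen_mem_and_subset (X := V.left) (x := x) (U := ⊤) trivial
  refine ⟨⟨W, hW⟩, hxW, ?_⟩
  let U : Over S := Over.mk (W.ι ≫ V.hom)
  let o : U ⟶ V := Over.homMk W.ι rfl
  have hU : IsAffine U.left := hW
  have ha := repWith_etale_restrict hφ W
  obtain ⟨hZi, -⟩ := id hZ
  obtain ⟨hYi, -⟩ := id hY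
  obtain ⟨hDi, -⟩ := id hD
  obtain ⟨AZ, gZ, qZ⟩ := exists_ideal_square hZi ((yon S).map o ≫ φ)
  obtain ⟨AY, gY, qY⟩ := exists_ideal_square hYi ((yon S).map o ≫ φ)
  obtain ⟨AD, gD, qD⟩ := exists_ideal_square hDi ((yon S).map o ≫ φ)
  have key : AD.ideal ⟨⊤, isAffineOpen_top U.left⟩ =
      AZ.ideal ⟨⊤, isAffineOpen_top U.left⟩ * AY.ideal ⟨⊤, isAffineOpen_top U.left⟩ := by
    rw [ideal_eq_of_isCutOutBy hZ hU _ ha qZ, ideal_eq_of_isCutOutBy hY hU _ ha qY,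
      ideal_eq_of_isCutOutBy hD hU _ ha qD]
    rfl
  have hle : (⟨⊤, isAffineOpen_top U.left⟩ : U.left.affineOpens).1 ≤ o.left ⁻¹ᵁ W := fun z _ => z.2
  rw [← comap_eq_of_square sD o qD, ← comap_eq_of_square sZ o qZ, ← comap_eq_of_square sY o qY,
    comap_ideal KD o.left ⟨W, hW⟩ _ hle, comap_ideal KZ o.left ⟨W, hW⟩ _ hle,
    comap_ideal KY o.left ⟨W, hW⟩ _ hle, ← Ideal.map_mul] at key
  have hbij : Function.Bijective (o.left.appLE W ⊤ hle).hom := by
    have : IsIso (o.left.appLE W ⊤ hle) := by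
      change IsIso (W.ι.appLE W ⊤ hle)
      rw [Scheme.Opens.ι_appLE]
      have h : ∀ f : W.ι ''ᵁ ⊤ ⟶ W, IsIso (V.left.presheaf.map f.op) := fun f => by
        rw [Subsingleton.elim f (eqToHom W.ι_image_top)]; infer_instance
      exact h _
    exact ConcreteCategory.bijective_of_isIso _
  rw [Scheme.IdealSheafData.ideal_mul, Pi.mul_apply]
  refine le_antisymm (fun a ha' => ?_) (fun a ha' => ?_)
  · have h1 := key.le (Ideal.mem_map_of_mem _ ha')
    obtain ⟨b, hb, hba⟩ := (Ideal.mem_map_iff_of_surjective _ hbij.2).1 h1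
    exact hbij.1 hba ▸ hb
  · have h1 := key.ge (Ideal.mem_map_of_mem _ ha')
    obtain ⟨b, hb, hba⟩ := (Ideal.mem_map_iff_of_surjective _ hbij.2).1 h1
    exact hbij.1 hba ▸ hb

theorem isEffCartierSub_of_mul {Z Y D : Sp S} (hX : IsAlgSpace X) {iZ : Z ⟶ X} {iY : Y ⟶ X}
    {iD : D ⟶ X} {I J : IdealEt X} (hZ : IsCutOutBy I iZ) (hY : IsCutOutBy J iY)
    (hD : IsCutOutBy (I * J) iD) (hDc : IsEffCartierSub iD) :
    IsEffCartierSub iZ ∧ IsEffCartierSub iY := by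
  obtain ⟨V, φ, hφe, hφs⟩ := hX.atlas
  obtain ⟨hZi, -⟩ := id hZ
  obtain ⟨hYi, -⟩ := id hY
  obtain ⟨KZ, fZ, sZ⟩ := exists_ideal_square hZi φ
  obtain ⟨KY, fY, sY⟩ := exists_ideal_square hYi φ
  obtain ⟨KD, fD, sD⟩ := exists_ideal_square hDc.1 φ
  have hK := isEffCartierIdeal_chart hDc hφe sD
  rw [mul_eq_of_isCutOutBy hZ hY hD hφe sZ sY sD] at hK
  exact ⟨⟨hZi, V, φ, KZ, fZ, hφe, hφs, sZ, isEffCartierIdeal_of_mul_left hK⟩,
    ⟨hYi, V, φ, KY, fY, hφe, hφs, sY, isEffCartierIdeal_of_mul_right hK⟩⟩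

theorem isEffCartierSub_sum {Z Y D : Sp S} (hX : IsAlgSpace X) {iZ : Z ⟶ X} {iY : Y ⟶ X}
    {iD : D ⟶ X} {I J : IdealEt X} (hZ : IsCutOutBy I iZ) (hY : IsCutOutBy J iY)
    (hD : IsCutOutBy (I * J) iD) (eZ : IsEffCartierSub iZ) (eY : IsEffCartierSub iY) :
    IsEffCartierSub iD := by
  obtain ⟨V, φ, hφe, hφs⟩ := hX.atlas
  obtain ⟨hDi, -⟩ := id hD
  obtain ⟨KZ, fZ, sZ⟩ := exists_ideal_square eZ.1 φ
  obtain ⟨KY, fY, sY⟩ := exists_ideal_square eY.1 φ
  obtain ⟨KD, fD, sD⟩ := exists_ideal_square hDi φ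
  refine ⟨hDi, V, φ, KD, fD, hφe, hφs, sD, ?_⟩
  rw [mul_eq_of_isCutOutBy hZ hY hD hφe sZ sY sD]
  exact isEffCartierIdeal_mul (isEffCartierIdeal_chart eZ hφe sZ) (isEffCartierIdeal_chart eY hφe sY)

end Groth.Agent.AlgSpCartier
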