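import Groth.Prelude.Def_AlgSpModX
import Groth.Agent.Lib.AlgSpCartier.Space

/-!
# Effective Cartier divisors avoiding the weakly associated points
-/

universe u

set_option backward.isDefEq.respectTransparency.types false

open CategoryTheory CategoryTheory.Limits AlgebraicGeometry Opposite TopologicalSpace

namespace Groth.Agent.AlgSpCartier

open AlgSp Groth.Agent.AlgSpace Groth.Agent.EffCartier
open Groth.Agent.AlgSpDecent
open scoped nonZeroDivisors

variable {S : Scheme.{u}}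

/-- A function that is not a nonzerodivisor on an affine chart vanishes at a weakly associated point. -/
theorem exists_weakAss_of_not_mem_nonZeroDivisors {X : Sp S} (E : EtOver X) [IsAffine E.obj.left.left]
    {b : Γ(E.obj.left.left, ⊤)} (hb : b ∉ (Γ(E.obj.left.left, ⊤) : Type u)⁰) :
    ∃ u : E.obj.left.left, IsWeakAssOn (unitModEt X) E u ∧ u ∉ E.obj.left.left.basicOpen b := by
  let A := Γ(E.obj.left.left, ⊤)
  obtain ⟨z, hzb, hz⟩ : ∃ z : A, z * b = 0 ∧ z ≠ 0 := by
    rw [mem_nonZeroDivisors_iff_right] at hb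
    push Not at hb
    exact hb
  let s : sectModEt (unitModEt X) E := upΓ E z
  have hann : ∀ a : A, a ∈ annSect s ↔ a * z = 0 := fun a => by
    rw [mem_annSect_iff]
    change upΓ E a * upΓ E z = 0 ↔ _
    rw [← map_mul]
    exact map_eq_zero_iff (upΓ E) ULift.ringEquiv.symm.injective
  have hne : annSect s ≠ ⊤ := fun h => hz (by
    have := (hann 1).1 (h ▸ Submodule.mem_top)
    rwa [one_mul] at this)
  obtain ⟨m, hm, hle⟩ := Ideal.exists_le_maximal _ hne
  have := hm.isPrime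
  obtain ⟨p, hp, -⟩ := Ideal.exists_minimalPrimes_le hle
  have hpP : p.IsPrime := hp.1.1
  have hU := isAffineOpen_top E.obj.left.left
  let u := hU.fromSpec ⟨p, hpP⟩
  have hu : primeAtPt E.obj.left.left u = p := by
    ext a
    rw [primeAtPt, Ideal.mem_comap, IsLocalRing.mem_maximalIdeal, mem_nonunits_iff]
    have h1 : u ∈ E.obj.left.left.basicOpen a ↔ a ∉ p := by
      change (⟨p, hpP⟩ : PrimeSpectrum A) ∈ hU.fromSpec ⁻¹ᵁ E.obj.left.left.basicOpen a ↔ _
      rw [hU.fromSpec_preimage_basicOpen]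
      rfl
    change ¬ IsUnit (E.obj.left.left.presheaf.germ ⊤ u trivial a) ↔ _
    rw [← E.obj.left.left.mem_basicOpen a u trivial, h1, not_not]
  refine ⟨u, ⟨s, hu.symm ▸ hp⟩, ?_⟩
  change ¬ ((⟨p, hpP⟩ : PrimeSpectrum A) ∈ hU.fromSpec ⁻¹ᵁ E.obj.left.left.basicOpen b)
  rw [hU.fromSpec_preimage_basicOpen]
  exact not_not.2 (hp.1.2 ((hann b).2 (by rw [mul_comm, hzb])))

/-- Effective Cartier divisors pull back along maps avoiding them at weakly associated points. -/
theorem isEffCartierSub_pullback_of_avoid {X Y D P : Sp S} (hX : IsAlgSpace X) (hY : IsAlgSpace Y)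
    {f : X ⟶ Y} {i : D ⟶ Y} (hD : IsEffCartierSub i)
    (h : ∀ x ∈ WeakAssEt (unitModEt X), Points.map f x ∉ Set.range (Points.map i))
    {fst : P ⟶ D} {snd : P ⟶ X} (sq : IsPullback fst snd i f) : IsEffCartierSub snd := by
  have hsnd : RepWith @IsClosedImmersion snd :=
    (RepWith (S := S) @IsClosedImmersion).of_isPullback sq hD.1
  obtain ⟨U, V, a, b, k, hae, has, hbe, hbs, w⟩ := exists_chart_square hX hY f
  obtain ⟨J, fJ, sqJ⟩ := exists_ideal_square hD.1 b
  have hJ := isEffCartierIdeal_chart hD hbe sqJ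
  obtain ⟨I, fI, sqI⟩ := exists_ideal_square hsnd a
  have h' := sqI.paste_horiz sq
  rw [w] at h'
  refine ⟨hsnd, U, a, I, fI, hae, has, sqI, ?_⟩
  rw [← comap_eq_of_square sqJ k h']
  refine isEffCartierIdeal_of_forall_exists fun x => ?_
  obtain ⟨W, hxW, c, hc⟩ := isEffCartierIdeal_iff.mp hJ (k.left x)
  obtain ⟨O, hO, hxO, hOW⟩ := exists_isAffineOpen_mem_and_subset (U := k.left ⁻¹ᵁ W.1) hxW
  have hOW : O ≤ k.left ⁻¹ᵁ W.1 := hOW
  refine ⟨⟨O, hO⟩, hxO, k.left.appLE W.1 O hOW c, ?_, comap_ideal_eq_span hc k.left ⟨O, hO⟩ hOW⟩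
  by_contra hnz
  let o : Over.mk (O.ι ≫ U.hom) ⟶ U := Over.homMk O.ι rfl
  let E : EtOver X := EtOver.mk ((yon S).map o ≫ a) (repWith_etale_restrict hae O)
  have : IsAffine E.obj.left.left := hO
  let m : Γ(O.toScheme, ⊤) := O.topIso.inv (k.left.appLE W.1 O hOW c)
  have hm : m ∉ (Γ(O.toScheme, ⊤) : Type u)⁰ := fun hm => hnz (by
    rw [mem_nonZeroDivisors_iff_right] at hm ⊢
    intro z hz
    have := hm (O.topIso.inv z) (by rw [← map_mul, hz, map_zero])
    exact (ConcreteCategory.bijective_of_isIso O.topIso.inv).1 (this.trans (map_zero _).symm))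
  obtain ⟨v, hwa, hvb⟩ := exists_weakAss_of_not_mem_nonZeroDivisors E (b := m) hm
  refine h (Points.ofPt E.obj.hom v) ⟨E, ‹_›, v, rfl, hwa⟩ ?_
  change Points.map f (Points.ofPt ((yon S).map o ≫ a) v) ∈ _
  rw [ofPt_map_comp, Points.map_ofPt, w, ofPt_map_comp, ← support_eq_preimage sqJ]
  by_contra hns
  refine hvb ?_
  have h1 : k.left (O.ι v) ∈ V.left.basicOpen c := by
    rw [basicOpen_eq hc]
    exact ⟨hns, hOW v.2⟩
  have h2 : O.ι v ∈ U.left.basicOpen (k.left.appLE W.1 O hOW c) := by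
    rw [Scheme.Hom.appLE, CommRingCat.comp_apply, Scheme.basicOpen_res, ← Scheme.preimage_basicOpen]
    exact ⟨v.2, h1⟩
  rw [← O.ι_image_basicOpen_topIso_inv] at h2
  obtain ⟨v', hv', he⟩ := h2
  exact O.ι.isOpenEmbedding.injective he ▸ hv'

end Groth.Agent.AlgSpCartier
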